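import Mathlib.GroupTheory.Sylow
import Mathlib.GroupTheory.Nilpotent
import Cfsg.Agent.Lib.LinearGroup.TorusSylow
import Cfsg.Agent.Lib.LinearGroup.SylowChar

/-!
Redundant Sylow subgroups of `SL₂(q)` and their transfer to central quotients.
-/

set_option autoImplicit false
set_option linter.style.haveILetI false
set_option linter.unusedSectionVars false
set_option linter.unusedSimpArgs false

namespace Cfsg.Agent.Redundant81

open scoped Pointwise MatrixGroups

section General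

variable {G : Type*} [Group G] [Finite G] {p : ℕ} [hp : Fact p.Prime]

/-- Some Sylow subgroup is redundant. -/
def Red (p : ℕ) (G : Type*) [Group G] : Prop :=
  ∃ Q : Sylow p G, ∀ x : G, (∃ k : ℕ, orderOf x = p ^ k) → ∃ P : Sylow p G, P ≠ Q ∧ x ∈ P

theorem mem_of_mem_normalizer (P : Sylow p G) {x : G} {k : ℕ} (hx : orderOf x = p ^ k)
    (hn : x ∈ Subgroup.normalizer ((P : Subgroup G) : Set G)) : x ∈ P := by
  have hK : IsPGroup p (Subgroup.zpowers x) := IsPGroup.of_card (n := k) (by rw [Nat.card_zpowers, hx])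
  have h : IsPGroup p ↥((P : Subgroup G) ⊔ Subgroup.zpowers x) :=
    P.isPGroup'.to_sup_of_normal_left' hK (Subgroup.zpowers_le.2 hn)
  have h2 := P.is_maximal' h le_sup_left
  have h3 : x ∈ (P : Subgroup G) ⊔ Subgroup.zpowers x :=
    Subgroup.mem_sup_right (Subgroup.mem_zpowers x)
  rwa [h2] at h3

theorem exists_orderOf_of_mem (P : Sylow p G) {x : G} (hx : x ∈ P) : ∃ k, orderOf x = p ^ k := by
  obtain ⟨k, hk⟩ := P.isPGroup'.exists_orderOf_eq_pow ⟨x, hx⟩
  exact ⟨k, by rwa [Subgroup.orderOf_mk] at hk⟩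

theorem exists_sylow_mem {x : G} {k : ℕ} (hx : orderOf x = p ^ k) : ∃ P : Sylow p G, x ∈ P := by
  obtain ⟨P, hP⟩ := (IsPGroup.of_card (n := k) (by rw [Nat.card_zpowers, hx]) :
    IsPGroup p (Subgroup.zpowers x)).exists_le_sylow
  exact ⟨P, hP (Subgroup.mem_zpowers x)⟩

variable {H : Type*} [Group H] [Finite H]

theorem mem_of_map_mem (f : G →* H) (hker : f.ker ≤ Subgroup.center G) (P : Sylow p G) {x : G}
    (hx : ∃ k, orderOf x = p ^ k) (hfx : f x ∈ (P : Subgroup G).map f) : x ∈ P := by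
  obtain ⟨k, hk⟩ := hx
  obtain ⟨y, hy, hyx⟩ := hfx
  refine mem_of_mem_normalizer P hk ?_
  have hz : y⁻¹ * x ∈ Subgroup.center G := hker (by
    rw [MonoidHom.mem_ker, map_mul, map_inv, hyx, inv_mul_cancel])
  rw [show x = y * (y⁻¹ * x) by group]
  exact mul_mem (Subgroup.le_normalizer hy) (Subgroup.center_le_normalizer _ hz)

/-- Redundancy passes both ways through a central quotient. -/
theorem red_iff (f : G →* H) (hf : Function.Surjective f) (hker : f.ker ≤ Subgroup.center G) :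
    Red p G ↔ Red p H := by
  have himg : ∀ R : Sylow p H, ∃ P : Sylow p G, (P : Subgroup G).map f = (R : Subgroup H) := by
    intro R
    obtain ⟨P₀⟩ := (inferInstance : Nonempty (Sylow p G))
    obtain ⟨h, hh⟩ := MulAction.exists_smul_eq H (P₀.mapSurjective hf) R
    obtain ⟨g, rfl⟩ := hf h
    refine ⟨g • P₀, ?_⟩
    rw [← hh, Sylow.coe_subgroup_smul, Sylow.coe_subgroup_smul, Sylow.coe_mapSurjective]
    ext z
    simp only [Subgroup.mem_map, Subgroup.mem_pointwise_smul_iff_inv_smul_mem]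
    constructor
    · rintro ⟨a, ha, rfl⟩
      exact ⟨_, ha, by simp [MulAut.smul_def]⟩
    · rintro ⟨a, ha, hza⟩
      refine ⟨g * a * g⁻¹, ?_, ?_⟩
      · simpa [MulAut.smul_def, mul_assoc] using ha
      · simp only [MulAut.smul_def, map_mul, map_inv, hza]
        simp [mul_assoc]
  have hinj : ∀ P P' : Sylow p G, (P : Subgroup G).map f = (P' : Subgroup G).map f → P = P' := by
    intro P P' h
    apply Sylow.ext
    refine (P.is_maximal' P'.isPGroup' fun x hx => ?_).symm
    exact mem_of_map_mem f hker P' (exists_orderOf_of_mem P hx) (h ▸ ⟨x, hx, rfl⟩)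
  constructor
  · rintro ⟨Q, hQ⟩
    refine ⟨Q.mapSurjective hf, fun y ⟨k, hk⟩ => ?_⟩
    obtain ⟨R, hR⟩ := exists_sylow_mem hk
    obtain ⟨P₁, hP₁⟩ := himg R
    have hy : y ∈ (P₁ : Subgroup G).map f := hP₁ ▸ hR
    obtain ⟨x, hx, rfl⟩ := hy
    obtain ⟨P, hPQ, hxP⟩ := hQ x (exists_orderOf_of_mem P₁ hx)
    refine ⟨P.mapSurjective hf, fun h => hPQ (hinj _ _ ?_), ⟨x, hxP, rfl⟩⟩
    exact congrArg Sylow.toSubgroup h
  · rintro ⟨R, hR⟩
    obtain ⟨Q, hQ⟩ := himg R
    refine ⟨Q, fun x hx => ?_⟩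
    obtain ⟨k, hk⟩ := hx
    have hfx : ∃ k', orderOf (f x) = p ^ k' := by
      obtain ⟨j, -, hj⟩ := (Nat.dvd_prime_pow hp.out).1 (hk ▸ orderOf_map_dvd f x)
      exact ⟨j, hj⟩
    obtain ⟨R', hne, hmem⟩ := hR (f x) hfx
    obtain ⟨P, hP⟩ := himg R'
    refine ⟨P, fun h => hne (Sylow.ext ?_), mem_of_map_mem f hker P ⟨k, hk⟩ (hP ▸ hmem)⟩
    rw [← hP, h, hQ]

/-- A cyclic Sylow subgroup is never redundant. -/
theorem not_red_of_cyclic (h : ∀ Q : Sylow p G, IsCyclic (Q : Subgroup G)) : ¬ Red p G := by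
  rintro ⟨Q, hQ⟩
  obtain ⟨g, hg⟩ := (h Q).exists_generator
  obtain ⟨P, hne, hP⟩ := hQ g (exists_orderOf_of_mem Q g.2)
  refine hne (Sylow.ext (Q.is_maximal' P.isPGroup' fun x hx => ?_))
  obtain ⟨i, hi⟩ := Subgroup.mem_zpowers_iff.1 (hg ⟨x, hx⟩)
  have h2 : (g : G) ^ i = x := by
    simpa using congrArg Subtype.val hi
  rw [← h2]
  exact zpow_mem hP i

/-- Trivially intersecting nontrivial Sylow subgroups are never redundant. -/
theorem not_red_of_ti (h : ∀ P Q : Sylow p G, P ≠ Q → (P : Subgroup G) ⊓ Q = ⊥)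
    (hne : ∀ Q : Sylow p G, (Q : Subgroup G) ≠ ⊥) : ¬ Red p G := by
  rintro ⟨Q, hQ⟩
  obtain ⟨x, hx, hx1⟩ := (Subgroup.ne_bot_iff_exists_ne_one.1 (hne Q) |>.imp fun a ha =>
    And.intro a.2 ha : ∃ a : (Q : Subgroup G), _ ∧ _) |> fun ⟨a, h1, h2⟩ => (⟨(a : G), h1,
      fun e => h2 (Subtype.ext e)⟩ : ∃ x : G, x ∈ (Q : Subgroup G) ∧ x ≠ 1)
  obtain ⟨P, hPQ, hP⟩ := hQ x (exists_orderOf_of_mem Q hx)
  exact hx1 (Subgroup.mem_bot.1 (h P Q hPQ ▸ Subgroup.mem_inf.2 ⟨hP, hx⟩))

end General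

section SL

variable {F : Type*} [Field F]

/-- `α + β z`. -/
def lin (z : SL(2, F)) (α β : F) : Matrix (Fin 2) (Fin 2) F := α • 1 + β • z.1

theorem lin_apply (z : SL(2, F)) (α β : F) (i j : Fin 2) :
    lin z α β i j = α * (if i = j then 1 else 0) + β * z.1 i j := by
  simp [lin, Matrix.one_apply]

variable {z : SL(2, F)} (hz : z.1 * z.1 = -1) (h2 : (2 : F) ≠ 0)

include hz h2 in
theorem trace_zero : z.1 1 1 = -z.1 0 0 ∧ z.1 0 0 * z.1 0 0 + z.1 0 1 * z.1 1 0 = -1 := by
  have e00 := congrFun (congrFun hz 0) 0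
  have e11 := congrFun (congrFun hz 1) 1
  have hd : z.1.det = 1 := z.2
  rw [Matrix.det_fin_two] at hd
  simp [Matrix.mul_apply, Fin.sum_univ_two] at e00 e11
  have hsum : (z.1 0 0 + z.1 1 1) * (z.1 0 0 + z.1 1 1) = 0 := by linear_combination e00 + e11 + 2 * hd
  have h0 : z.1 0 0 + z.1 1 1 = 0 := mul_self_eq_zero.1 hsum
  exact ⟨eq_neg_of_add_eq_zero_right h0, e00⟩

include hz h2 in
theorem lin_det (α β : F) : (lin z α β).det = α ^ 2 + β ^ 2 := by
  obtain ⟨h1, h3⟩ := trace_zero hz h2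
  simp only [Matrix.det_fin_two, lin_apply, h1, Fin.reduceEq, if_true, if_false]
  linear_combination (-β ^ 2) * h3

include hz h2 in
theorem lin_ne (α β : F) (h : lin z α β = lin z 0 0) : α = 0 ∧ β = 0 := by
  obtain ⟨h1, h3⟩ := trace_zero hz h2
  have a0 := congrFun (congrFun h 0) 0
  have a1 := congrFun (congrFun h 1) 1
  have a2 := congrFun (congrFun h 0) 1
  have a3 := congrFun (congrFun h 1) 0
  simp [lin_apply, h1] at a0 a1 a2 a3
  have hα : α = 0 := (mul_eq_zero.1 (show (2 : F) * α = 0 by linear_combination a0 + a1)).resolve_left h2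
  refine ⟨hα, ?_⟩
  rcases a2 with hb | hb
  · exact hb
  · rw [hb] at h3
    have ha : z.1 0 0 ≠ 0 := by
      intro h0; simp [h0] at h3
    rw [hα, zero_add] at a0
    exact (mul_eq_zero.1 a0).resolve_right ha

include hz h2 in
theorem lin_inj {α β α' β' : F} (h : lin z α β = lin z α' β') : α = α' ∧ β = β' := by
  have h' : lin z (α - α') (β - β') = lin z 0 0 := by
    have : lin z (α - α') (β - β') = lin z α β - lin z α' β' := by
      simp only [lin, sub_smul]; abel
    rw [this, h, sub_self]; simp [lin]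
  obtain ⟨h1, h3⟩ := lin_ne hz h2 _ _ h'
  exact ⟨sub_eq_zero.1 h1, sub_eq_zero.1 h3⟩

include hz h2 in
theorem exists_lin {g : SL(2, F)} (hg : g * z = z * g) : ∃ α β : F, g.1 = lin z α β := by
  obtain ⟨h1, h3⟩ := trace_zero hz h2
  have hg' : g.1 * z.1 = z.1 * g.1 := congrArg Subtype.val hg
  have c00 := congrFun (congrFun hg' 0) 0
  have c01 := congrFun (congrFun hg' 0) 1
  have c10 := congrFun (congrFun hg' 1) 0
  simp [Matrix.mul_apply, Fin.sum_univ_two, h1] at c00 c01 c10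
  refine ⟨(g.1 0 0 + g.1 1 1) * 2⁻¹, -((g.1 0 0 * z.1 0 0 + g.1 0 1 * z.1 1 0 + g.1 1 0 * z.1 0 1
    - g.1 1 1 * z.1 0 0) * 2⁻¹), ?_⟩
  ext i j
  fin_cases i <;> fin_cases j <;> simp [lin_apply, h1] <;> field_simp <;> grind

include hz h2 in
theorem mem_centralizer_iff_lin {g : SL(2, F)} :
    g ∈ Subgroup.centralizer {z} ↔ ∃ α β : F, g.1 = lin z α β := by
  rw [Subgroup.mem_centralizer_singleton_iff]
  refine ⟨exists_lin hz h2, ?_⟩
  rintro ⟨α, β, h⟩
  apply Subtype.ext
  rw [Matrix.SpecialLinearGroup.coe_mul, Matrix.SpecialLinearGroup.coe_mul, h]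
  simp [lin, mul_add, add_mul]

include hz h2 in
theorem centralizer_comm {g k : SL(2, F)} (hg : g ∈ Subgroup.centralizer {z})
    (hk : k ∈ Subgroup.centralizer {z}) : g * k = k * g := by
  obtain ⟨a, b, h⟩ := (mem_centralizer_iff_lin hz h2).1 hg
  obtain ⟨c, d, h'⟩ := (mem_centralizer_iff_lin hz h2).1 hk
  apply Subtype.ext
  rw [Matrix.SpecialLinearGroup.coe_mul, Matrix.SpecialLinearGroup.coe_mul, h, h']
  simp [lin, mul_add, add_mul, smul_smul, mul_comm]
  abel

include hz h2 in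
/-- Outside the centraliser, normalising elements invert it. -/
theorem inverts {y : SL(2, F)} (hy : y ∉ Subgroup.centralizer {z})
    (hyz : y * z * y⁻¹ ∈ Subgroup.centralizer {z}) {t : SL(2, F)}
    (ht : t ∈ Subgroup.centralizer {z}) : y * t * y⁻¹ = t⁻¹ := by
  obtain ⟨α, β, h⟩ := (mem_centralizer_iff_lin hz h2).1 hyz
  have hsq : (y * z * y⁻¹).1 * (y * z * y⁻¹).1 = -1 := by
    rw [← Matrix.SpecialLinearGroup.coe_mul, show y * z * y⁻¹ * (y * z * y⁻¹) = y * (z * z) * y⁻¹ by group,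
      Matrix.SpecialLinearGroup.coe_mul, Matrix.SpecialLinearGroup.coe_mul,
      Matrix.SpecialLinearGroup.coe_mul, hz, mul_neg, mul_one, neg_mul,
      ← Matrix.SpecialLinearGroup.coe_mul, mul_inv_cancel, Matrix.SpecialLinearGroup.coe_one]
  have hlin : lin z (α ^ 2 - β ^ 2) (2 * α * β) = lin z (-1) 0 := by
    rw [h] at hsq
    calc lin z (α ^ 2 - β ^ 2) (2 * α * β) = lin z α β * lin z α β := by
          simp only [lin, add_mul, mul_add, smul_mul_assoc, mul_smul_comm, one_mul, mul_one,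
            smul_smul, hz, smul_neg, ← neg_smul]
          module
      _ = -1 := hsq
      _ = lin z (-1) 0 := by simp [lin]
  obtain ⟨h1, h3⟩ := lin_inj hz h2 hlin
  have hdet : α ^ 2 + β ^ 2 = 1 := by rw [← lin_det hz h2, ← h]; exact (y * z * y⁻¹).2
  have hα : α = 0 := pow_eq_zero_iff two_ne_zero |>.1
    ((mul_eq_zero.1 (show (2 : F) * α ^ 2 = 0 by linear_combination h1 + hdet)).resolve_left h2)
  have hβ : β = -1 := by
    have : β * β = 1 := by rw [hα] at hdet; linear_combination hdet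
    refine (mul_self_eq_one_iff.1 this).resolve_left fun hb => hy ?_
    rw [Subgroup.mem_centralizer_singleton_iff]
    have h4 : y * z * y⁻¹ = z := Subtype.ext (by rw [h, hα, hb]; simp [lin])
    exact mul_inv_eq_iff_eq_mul.1 h4
  obtain ⟨c, d, hcd⟩ := (mem_centralizer_iff_lin hz h2).1 ht
  apply eq_inv_of_mul_eq_one_left
  apply Subtype.ext
  have hyy : y.1 * (y⁻¹).1 = 1 := by
    rw [← Matrix.SpecialLinearGroup.coe_mul, mul_inv_cancel, Matrix.SpecialLinearGroup.coe_one]
  have hconj : y.1 * z.1 * (y⁻¹).1 = -z.1 := by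
    rw [← Matrix.SpecialLinearGroup.coe_mul, ← Matrix.SpecialLinearGroup.coe_mul, h, hα, hβ]
    simp [lin]
  have hdet' : c ^ 2 + d ^ 2 = 1 := by rw [← lin_det hz h2, ← hcd]; exact t.2
  simp only [Matrix.SpecialLinearGroup.coe_mul, Matrix.SpecialLinearGroup.coe_one, hcd]
  have : y.1 * lin z c d * (y⁻¹).1 = lin z c (-d) := by
    simp only [lin, mul_add, add_mul, mul_smul_comm, smul_mul_assoc, mul_one, hyy, hconj,
      smul_neg, neg_smul]
  rw [this]
  calc lin z c (-d) * lin z c d = (c ^ 2 + d ^ 2) • (1 : Matrix (Fin 2) (Fin 2) F) := by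
        simp only [lin, add_mul, mul_add, smul_mul_assoc, mul_smul_comm, one_mul, mul_one,
          smul_smul, hz, smul_neg, ← neg_smul]
        module
    _ = 1 := by rw [hdet', one_smul]

/-- Points of the circle. -/
noncomputable def circleEquiv (h2 : (2 : F) ≠ 0) :
    {v : F × F // v.1 ^ 2 + v.2 ^ 2 = 1} ≃ Option {s : F // 1 + s ^ 2 ≠ 0} := by
  classical
  exact
  { toFun := fun v => if h : 1 + v.1.1 = 0 then none else
      some ⟨v.1.2 / (1 + v.1.1), by
        intro h0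
        have h1 := v.2
        field_simp at h0
        have : (2 : F) * (1 + v.1.1) = 0 := by linear_combination h0 - h1
        exact h ((mul_eq_zero.1 this).resolve_left h2)⟩
    invFun := fun o => match o with
      | none => ⟨(-1, 0), by ring⟩
      | some s => ⟨((1 - s.1 ^ 2) / (1 + s.1 ^ 2), 2 * s.1 / (1 + s.1 ^ 2)), by
          have := s.2
          field_simp
          ring⟩
    left_inv := by
      rintro ⟨⟨a, b⟩, hab⟩
      by_cases h : 1 + a = 0
      · have ha : a = -1 := eq_neg_of_add_eq_zero_right h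
        have hb : b = 0 := by
          subst ha
          exact pow_eq_zero_iff two_ne_zero |>.1 (by linear_combination hab)
        simp [ha, hb]
      · simp only [h, dite_false]
        have hne : (1 + a) ^ 2 + b ^ 2 ≠ 0 := by
          intro h0
          have : (2 : F) * (1 + a) = 0 := by linear_combination h0 - hab
          exact h ((mul_eq_zero.1 this).resolve_left h2)
        apply Subtype.ext
        refine Prod.ext ?_ ?_ <;> simp only <;> field_simp <;> grind
    right_inv := by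
      rintro (_ | ⟨s, hs⟩)
      · simp
      · have h1 : 1 + (1 - s ^ 2) / (1 + s ^ 2) = 2 / (1 + s ^ 2) := by field_simp; ring
        have h3 : ¬ (1 + (1 - s ^ 2) / (1 + s ^ 2) = 0) := by
          rw [h1]; exact div_ne_zero h2 hs
        simp only [h3, dite_false, Option.some.injEq, Subtype.mk.injEq]
        rw [h1]
        field_simp }

include hz h2 in
theorem card_centralizer [Fintype F] :
    Nat.card (Subgroup.centralizer ({z} : Set SL(2, F))) =
      if Fintype.card F % 4 = 1 then Fintype.card F - 1 else Fintype.card F + 1 := by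
  classical
  have hodd : Fintype.card F % 2 = 1 := by
    refine FiniteField.odd_card_of_char_ne_two fun h => h2 ?_
    have h0 := ringChar.Nat.cast_ringChar (R := F)
    rw [h] at h0
    exact_mod_cast h0
  let ψ : {v : F × F // v.1 ^ 2 + v.2 ^ 2 = 1} → Subgroup.centralizer ({z} : Set SL(2, F)) :=
    fun v => ⟨⟨lin z v.1.1 v.1.2, by rw [lin_det hz h2]; exact v.2⟩,
      (mem_centralizer_iff_lin hz h2).2 ⟨_, _, rfl⟩⟩
  have hψ : Function.Bijective ψ := by
    refine ⟨fun v w h => ?_, fun ⟨g, hg⟩ => ?_⟩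
    · obtain ⟨e1, e2⟩ := lin_inj hz h2 (congrArg (fun g : Subgroup.centralizer ({z} : Set SL(2, F)) =>
        g.1.1) h)
      exact Subtype.ext (Prod.ext e1 e2)
    · obtain ⟨a, b, hab⟩ := (mem_centralizer_iff_lin hz h2).1 hg
      refine ⟨⟨(a, b), ?_⟩, Subtype.ext (Subtype.ext hab.symm)⟩
      rw [← lin_det hz h2, ← hab]; exact g.2
  rw [← Nat.card_congr (Equiv.ofBijective ψ hψ), Nat.card_congr (circleEquiv h2),
    Nat.card_eq_fintype_card, Fintype.card_option, Fintype.card_subtype_compl]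
  have hsq : IsSquare (-1 : F) ↔ Fintype.card F % 4 = 1 := by
    rw [FiniteField.isSquare_neg_one_iff]; omega
  have hroot : ∀ s : F, 1 + s ^ 2 = 0 ↔ -1 = s * s := fun s => by
    rw [pow_two]
    exact ⟨fun h => (eq_neg_of_add_eq_zero_right h).symm, fun h => by rw [← h]; ring⟩
  by_cases h4 : Fintype.card F % 4 = 1
  · obtain ⟨i, hi⟩ := hsq.2 h4
    have hii : i ≠ -i := fun h => by
      have : (2 : F) * i = 0 := by linear_combination h
      rw [(mul_eq_zero.1 this).resolve_left h2, mul_zero] at hi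
      exact one_ne_zero (neg_eq_zero.1 hi)
    have hcard : Fintype.card {s : F // 1 + s ^ 2 = 0} = 2 := by
      rw [Fintype.card_subtype, Finset.card_eq_two]
      refine ⟨i, -i, hii, ?_⟩
      ext s
      simp only [Finset.mem_filter, Finset.mem_univ, true_and, Finset.mem_insert,
        Finset.mem_singleton, hroot]
      rw [hi]
      constructor
      · intro h; exact mul_self_eq_mul_self_iff.1 h.symm
      · rintro (rfl | rfl) <;> ring
    rw [hcard, if_pos h4]
    have := Fintype.one_lt_card (α := F); omega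
  · have hcard : Fintype.card {s : F // 1 + s ^ 2 = 0} = 0 := by
      rw [Fintype.card_eq_zero_iff]
      exact ⟨fun s => h4 (hsq.1 ⟨s.1, (hroot s.1).1 s.2⟩)⟩
    rw [hcard, if_neg h4]
    omega

variable [Fintype F]

include h2 in
theorem exists_sq_neg_one {Q : Sylow 2 SL(2, F)} {x : SL(2, F)} (hx : x ∈ Q)
    (hxc : x ∉ Subgroup.center SL(2, F)) :
    ∃ z : SL(2, F), z ∈ Q ∧ z.1 * z.1 = -1 ∧ x ∈ Subgroup.centralizer {z} := by
  haveI : Fact (Nat.Prime 2) := ⟨Nat.prime_two⟩
  obtain ⟨k, hk⟩ := exists_orderOf_of_mem Q hx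
  have hsq : x * x ≠ 1 := by
    intro h
    apply hxc
    by_cases hx1 : x = 1
    · rw [hx1]; exact one_mem _
    · have h1 := LinearGroup.eq_neg_one_of_sq_eq_one h2 x h hx1
      rw [Subgroup.mem_center_iff]
      intro g
      apply Subtype.ext
      simp [h1]
  have hk2 : 2 ≤ k := by
    by_contra hlt
    apply hsq
    rw [← pow_two]
    apply orderOf_dvd_iff_pow_eq_one.1
    rw [hk]
    exact (Nat.dvd_prime_pow Nat.prime_two).2 (⟨k, by omega, rfl⟩ : ∃ i ≤ 1, 2 ^ k = 2 ^ i) |>.trans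
      (by norm_num)
  refine ⟨x ^ 2 ^ (k - 2), pow_mem hx _, ?_, ?_⟩
  · rw [← Matrix.SpecialLinearGroup.coe_mul]
    refine LinearGroup.eq_neg_one_of_sq_eq_one h2 _ ?_ ?_
    · rw [← pow_add, ← pow_add, ← orderOf_dvd_iff_pow_eq_one, hk]
      apply dvd_of_eq
      rw [show k = (k - 2) + 2 by omega]
      simp [pow_add]; ring
    · rw [← pow_add]
      intro h
      have := orderOf_le_of_pow_eq_one (by positivity) h
      rw [hk] at this
      have : 2 ^ k = 2 ^ (k - 2) * 4 := by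
        conv_lhs => rw [show k = (k - 2) + 2 by omega]
        rw [pow_add]
        norm_num
      have := Nat.two_pow_pos (k - 2)
      omega
  · rw [Subgroup.mem_centralizer_singleton_iff]
    exact ((Commute.refl x).pow_right _).eq

theorem red_SL_iff (p : ℕ) [Fact p.Prime] :
    Red p SL(2, F) ↔ (p = 2 ∧ (¬ ∃ k : ℕ, Fintype.card F + 1 = 2 ^ k) ∧
      (¬ ∃ k : ℕ, Fintype.card F = 2 ^ k) ∧ ¬ ∃ k : ℕ, Fintype.card F = 2 ^ k + 1) := by
  have hP : p.Prime := Fact.out
  set q := Fintype.card F with hq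
  have hqc : Nat.card F = q := Nat.card_eq_fintype_card
  have hq1 : 1 < q := Fintype.one_lt_card
  by_cases hpq : p ∣ q
  · -- defining characteristic
    obtain ⟨r, n, hr, -, hrn⟩ : ∃ r n : ℕ, r.Prime ∧ CharP F r ∧ q = r ^ n := by
      obtain ⟨r, hr⟩ := CharP.exists F
      obtain ⟨n, h1, h3⟩ := FiniteField.card F r
      exact ⟨r, n, h1, hr, h3⟩
    have hpr : p = r := (Nat.prime_dvd_prime_iff_eq hP hr).1 (hP.dvd_of_dvd_pow (hrn ▸ hpq))
    subst hpr
    haveI : CharP F p := by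
      obtain ⟨r, hr'⟩ := CharP.exists F
      obtain ⟨m, h1, h3⟩ := FiniteField.card F r
      have : p = r := (Nat.prime_dvd_prime_iff_eq hP h1).1 (hP.dvd_of_dvd_pow (show p ∣ r ^ (m : ℕ) by rw [← h3]; exact hpq))
      subst this
      exact hr'
    refine iff_of_false (not_red_of_ti (fun P Q h => LinearGroup.sylow_inf_eq_bot_SL_two p P Q h)
      (fun Q h => ?_)) ?_
    · have h1 := LinearGroup.card_sylow_SL_two p Q
      rw [show Nat.card Q = Nat.card (Q : Subgroup SL(2, F)) from rfl, h, Subgroup.card_bot] at h1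
      omega
    · rintro ⟨rfl, -, h, -⟩
      exact h ⟨n, hrn⟩
  by_cases hp2 : p = 2
  swap
  · exact iff_of_false (not_red_of_cyclic fun Q =>
      LinearGroup.isCyclic_sylow_SL_two hp2 (by rwa [hqc]) Q) (fun h => hp2 h.1)
  subst hp2
  have hodd : Odd q := Nat.odd_iff.2 (Nat.two_dvd_ne_zero.1 hpq)
  obtain ⟨t, ht⟩ := hodd
  have h2 : (2 : F) ≠ 0 := by
    intro h
    have hch : ringChar F = 2 := CharP.ringChar_of_prime_eq_zero Nat.prime_two (by exact_mod_cast h)
    have := FiniteField.even_card_of_char_two hch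
    omega
  obtain ⟨m, hm, hfac, hcase⟩ := LinearGroup.two_part_SL_two (F := F) (by rw [hqc]; exact ⟨t, ht⟩)
  rw [hqc] at hcase
  set n := if q % 4 = 1 then q - 1 else q + 1 with hn
  have hnpos : 0 < n := by rw [hn]; split <;> omega
  have hmn : 2 ^ m ∣ n := by
    rcases hcase with ⟨h4, hd⟩ | ⟨h4, hd⟩
    · rwa [hn, if_pos h4]
    · rwa [hn, if_neg (by omega)]
  have hm1n : ¬ 2 ^ (m + 1) ∣ n := by
    intro hd
    have h1 : 2 ^ (m + 2) ∣ Nat.card SL(2, F) := by
      rw [LinearGroup.card_SL_two, hqc, ← one_pow 2, Nat.sq_sub_sq, pow_succ 2 (m + 1)]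
      apply dvd_mul_of_dvd_right
      rw [hn] at hd
      split at hd
      · rw [mul_comm (q + 1)]; exact mul_dvd_mul hd (by omega)
      · exact mul_dvd_mul hd (by omega)
    have := (Nat.prime_two.pow_dvd_iff_le_factorization Nat.card_pos.ne').1 h1
    omega
  have hQcard : ∀ Q : Sylow 2 SL(2, F), Nat.card (Q : Subgroup SL(2, F)) = 2 ^ (m + 1) := fun Q => by
    rw [Q.card_eq_multiplicity, hfac]
  have hcond : ((¬ ∃ k : ℕ, q + 1 = 2 ^ k) ∧ (¬ ∃ k : ℕ, q = 2 ^ k) ∧ ¬ ∃ k : ℕ, q = 2 ^ k + 1) ↔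
      ¬ ∃ k : ℕ, n = 2 ^ k := by
    constructor
    · rintro ⟨h1, -, h3⟩ ⟨k, hk⟩
      rw [hn] at hk
      split at hk
      · exact h3 ⟨k, by omega⟩
      · exact h1 ⟨k, hk⟩
    · intro h
      refine ⟨?_, ?_, ?_⟩ <;> rintro ⟨k, hk⟩ <;> rcases k with _ | _ | k <;>
        (try simp [pow_succ] at hk) <;> (try omega)
      · apply h
        refine ⟨k + 2, ?_⟩
        rw [hn, if_neg (by omega)]
        simp [pow_succ]; omega
      · exact h ⟨2, by rw [hn, if_neg (by omega)]; omega⟩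
      · apply h
        refine ⟨k + 2, ?_⟩
        rw [hn, if_pos (by omega)]
        simp [pow_succ]; omega
  refine Iff.trans ?_ ((and_iff_right rfl).trans hcond).symm
  have hnotle : ∀ (Q : Sylow 2 SL(2, F)) (z : SL(2, F)), z.1 * z.1 = -1 →
      ¬ (Q : Subgroup SL(2, F)) ≤ Subgroup.centralizer {z} := by
    intro Q z hz hle
    apply hm1n
    have := Subgroup.card_dvd_of_le hle
    rwa [hQcard, card_centralizer hz h2] at this
  constructor
  · -- if `n` is a power of two every Sylow subgroup owns an element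
    rintro ⟨Q, hQ⟩ ⟨k, hk⟩
    have hkm : k = m := by
      have h1 : 2 ^ m ∣ 2 ^ k := hk ▸ hmn
      have h3 : ¬ 2 ^ (m + 1) ∣ 2 ^ k := hk ▸ hm1n
      rw [Nat.pow_dvd_pow_iff_le_right (by norm_num)] at h1 h3
      omega
    subst hkm
    obtain ⟨C, hC, hdC⟩ := LinearGroup.exists_cyclic_subgroup (F := F) n (by
      rw [hn, hqc]; split
      · exact Or.inl dvd_rfl
      · exact Or.inr dvd_rfl)
    obtain ⟨g, hg⟩ := hC.exists_generator
    have hord : orderOf (g : SL(2, F)) = Nat.card C := by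
      rw [Subgroup.orderOf_coe, orderOf_eq_card_of_forall_mem_zpowers hg]
    set x₀ := (g : SL(2, F)) ^ (orderOf (g : SL(2, F)) / n)
    have hx₀ : orderOf x₀ = 2 ^ k := by
      rw [← hk]; exact orderOf_pow_orderOf_div (orderOf_pos _).ne' (hord ▸ hdC)
    obtain ⟨Q₀, hQ₀⟩ := exists_sylow_mem hx₀
    obtain ⟨u, hu⟩ := MulAction.exists_smul_eq SL(2, F) Q₀ Q
    set x := u * x₀ * u⁻¹ with hxdef
    have hxQ : x ∈ Q := by rw [← hu]; exact ⟨x₀, hQ₀, rfl⟩
    have hx : orderOf x = 2 ^ k := by rw [hxdef, ← hx₀]; exact (MulAut.conj u).orderOf_eq x₀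
    have hxc : x ∉ Subgroup.center SL(2, F) := by
      intro hc
      obtain ⟨r, hr, hs⟩ := Matrix.SpecialLinearGroup.mem_center_iff.1 hc
      have h1 : x ^ 2 = 1 := by
        apply Subtype.ext
        rw [Matrix.SpecialLinearGroup.coe_pow, ← hs, ← map_pow]
        rw [Fintype.card_fin] at hr
        rw [hr, map_one, Matrix.SpecialLinearGroup.coe_one]
      have := orderOf_le_of_pow_eq_one two_pos h1
      rw [hx] at this
      have : 2 ^ 2 ≤ 2 ^ k := Nat.pow_le_pow_right two_pos hm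
      omega
    obtain ⟨z, hzQ, hz, hxz⟩ := exists_sq_neg_one h2 hxQ hxc
    obtain ⟨P, hne, hxP⟩ := hQ x ⟨k, hx⟩
    have hA : Subgroup.zpowers x = Subgroup.centralizer {z} := by
      refine Subgroup.eq_of_le_of_card_ge (Subgroup.zpowers_le.2 hxz) ?_
      rw [card_centralizer hz h2, ← hn, hk, Nat.card_zpowers, hx]
    -- both subgroups normalise `⟨x⟩`
    have hnorm : ∀ R : Sylow 2 SL(2, F), x ∈ R → ∀ y ∈ R,
        y * z * y⁻¹ ∈ Subgroup.centralizer {z} := by
      intro R hxR y hy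
      have hle : Subgroup.zpowers x ≤ (R : Subgroup SL(2, F)) := Subgroup.zpowers_le.2 hxR
      have hidx : ((Subgroup.zpowers x).subgroupOf (R : Subgroup SL(2, F))).index = 2 := by
        have h1 := Subgroup.card_mul_index ((Subgroup.zpowers x).subgroupOf (R : Subgroup SL(2, F)))
        rw [Nat.card_congr (Subgroup.subgroupOfEquivOfLe hle).toEquiv, Nat.card_zpowers, hx,
          hQcard, pow_succ] at h1
        exact Nat.eq_of_mul_eq_mul_left (Nat.two_pow_pos k) h1
      have hnormal := Subgroup.normal_of_index_eq_two hidx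
      have hzA : z ∈ Subgroup.zpowers x := hA ▸ Subgroup.mem_centralizer_singleton_iff.2 rfl
      rw [← hA]
      exact hnormal.conj_mem ⟨z, hle hzA⟩ hzA ⟨y, hy⟩
    obtain ⟨y₀, hy₀, hy₀z⟩ := SetLike.not_le_iff_exists.1 (hnotle P z hz)
    refine hne (Sylow.ext (Q.is_maximal' P.isPGroup' ?_).symm).symm
    intro w hw
    by_cases hwA : w ∈ Subgroup.centralizer {z}
    · exact Subgroup.zpowers_le.2 hxP (hA ▸ hwA)
    · have hcomm : y₀⁻¹ * w ∈ Subgroup.centralizer {z} := by
        have h1 := inverts hz h2 hwA (hnorm Q hxQ w hw) (Subgroup.mem_centralizer_singleton_iff.2 rfl : z ∈ _)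
        have h3 := inverts hz h2 hy₀z (hnorm P hxP y₀ hy₀) (Subgroup.mem_centralizer_singleton_iff.2 rfl : z ∈ _)
        rw [Subgroup.mem_centralizer_singleton_iff]
        have h4 : w * z * w⁻¹ = y₀ * z * y₀⁻¹ := h1.trans h3.symm
        calc y₀⁻¹ * w * z = y₀⁻¹ * (w * z * w⁻¹) * w := by group
          _ = z * (y₀⁻¹ * w) := by rw [h4]; group
      have : w = y₀ * (y₀⁻¹ * w) := by group
      rw [this]
      exact mul_mem hy₀ (Subgroup.zpowers_le.2 hxP (hA ▸ hcomm))
  · -- otherwise an odd element of the centraliser moves the subgroup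
    intro hnp
    obtain ⟨r, hr, hrn, hr2⟩ : ∃ r : ℕ, r.Prime ∧ r ∣ n ∧ r ≠ 2 := by
      by_contra hc
      push Not at hc
      exact hnp ⟨_, Nat.eq_prime_pow_of_unique_prime_dvd hnpos.ne' fun hd hdn => hc _ hd hdn⟩
    have hmove : ∀ (Q : Sylow 2 SL(2, F)) (x : SL(2, F)), x ∈ Q → x ∉ Subgroup.center SL(2, F) →
        ∃ P : Sylow 2 SL(2, F), P ≠ Q ∧ x ∈ P := by
      intro Q x hx hxc
      obtain ⟨z, hzQ, hz, hxz⟩ := exists_sq_neg_one h2 hx hxc
      haveI := Fact.mk hr
      obtain ⟨t, ht⟩ := exists_prime_orderOf_dvd_card' (G := Subgroup.centralizer ({z} : Set SL(2, F))) r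
        (by rw [card_centralizer hz h2, ← hn]; exact hrn)
      rw [← Subgroup.orderOf_coe] at ht
      refine ⟨(t : SL(2, F)) • Q, fun hfix => ?_, ⟨x, hx, ?_⟩⟩
      · set R : Subgroup SL(2, F) := (Q : Subgroup SL(2, F))
        set D : Subgroup R := (Subgroup.centralizer {z}).subgroupOf R
        have hD : D < ⊤ := lt_top_iff_ne_top.2 fun h =>
          hnotle Q z hz (Subgroup.subgroupOf_eq_top.1 h)
        haveI : Group.IsNilpotent R := Q.isPGroup'.isNilpotent
        obtain ⟨y, hy, hyD⟩ := SetLike.exists_of_lt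
          ((Group.normalizerCondition_of_isNilpotent (G := R)) D hD)
        have hzD : (⟨z, hzQ⟩ : R) ∈ D := Subgroup.mem_centralizer_singleton_iff.2 rfl
        have hyz := (Subgroup.mem_normalizer_iff.1 hy _).1 hzD
        have hinv := inverts hz h2 hyD hyz t.2
        have hyt : (t : SL(2, F)) * y * (t : SL(2, F))⁻¹ ∈ R := by
          have h0 : (t : SL(2, F)) * y * (t : SL(2, F))⁻¹ ∈ ((t : SL(2, F)) • Q : Sylow 2 SL(2, F)) :=
            ⟨y, y.2, rfl⟩
          rwa [hfix] at h0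
        have h4 : (t : SL(2, F)) ^ 2 ∈ R := by
          have h5 := mul_mem hyt (inv_mem y.2)
          have h6 : (y : SL(2, F)) * (t : SL(2, F))⁻¹ * (y : SL(2, F))⁻¹ = t := by
            have := congrArg (·⁻¹) hinv
            simpa [mul_assoc] using this
          rw [show (t : SL(2, F)) * y * (t : SL(2, F))⁻¹ * (y : SL(2, F))⁻¹
            = (t : SL(2, F)) * ((y : SL(2, F)) * (t : SL(2, F))⁻¹ * (y : SL(2, F))⁻¹) by group, h6,
            ← pow_two] at h5
          exact h5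
        obtain ⟨j, hj⟩ := exists_orderOf_of_mem Q h4
        rw [Nat.Coprime.orderOf_pow (by rw [ht]; exact (Nat.coprime_primes hr Nat.prime_two).2 hr2),
          ht] at hj
        exact hr2 ((Nat.prime_dvd_prime_iff_eq hr Nat.prime_two).1
          (hr.dvd_of_dvd_pow (dvd_of_eq hj)))
      · change (t : SL(2, F)) * x * (t : SL(2, F))⁻¹ = x
        rw [centralizer_comm hz h2 t.2 hxz, mul_inv_cancel_right]
    obtain ⟨Q⟩ := (inferInstance : Nonempty (Sylow 2 SL(2, F)))
    obtain ⟨x₁, hx₁, hx₁c⟩ : ∃ x ∈ Q, x ∉ Subgroup.center SL(2, F) := by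
      by_contra hc
      push Not at hc
      have hle : Nat.card (Q : Subgroup SL(2, F)) ≤ Nat.card (Subgroup.center SL(2, F)) :=
        Subgroup.card_le_of_le hc
      rw [hQcard, LinearGroup.card_center_SL, hqc] at hle
      have h8 : 2 ^ (2 + 1) ≤ 2 ^ (m + 1) := Nat.pow_le_pow_right two_pos (by omega)
      have h9 : Nat.gcd 2 (q - 1) ≤ 2 := Nat.gcd_le_left _ two_pos
      simp only [Fintype.card_fin] at hle
      omega
    obtain ⟨P₁, hP₁, -⟩ := hmove Q x₁ hx₁ hx₁c
    refine ⟨Q, fun x hx => ?_⟩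
    obtain ⟨k, hk⟩ := hx
    by_cases hxQ : x ∈ Q
    · by_cases hxc : x ∈ Subgroup.center SL(2, F)
      · exact ⟨P₁, hP₁, mem_of_mem_normalizer P₁ hk (Subgroup.center_le_normalizer _ hxc)⟩
      · exact hmove Q x hxQ hxc
    · obtain ⟨P, hP⟩ := exists_sylow_mem hk
      exact ⟨P, fun h => hxQ (h ▸ hP), hP⟩

theorem red_PSL_iff (p : ℕ) [Fact p.Prime] :
    Red p (Matrix.ProjectiveSpecialLinearGroup (Fin 2) F) ↔ (p = 2 ∧
      (¬ ∃ k : ℕ, Fintype.card F + 1 = 2 ^ k) ∧
      (¬ ∃ k : ℕ, Fintype.card F = 2 ^ k) ∧ ¬ ∃ k : ℕ, Fintype.card F = 2 ^ k + 1) := by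
  rw [← red_SL_iff (F := F) p]
  exact (red_iff (QuotientGroup.mk' (Subgroup.center SL(2, F)))
    (QuotientGroup.mk'_surjective _) (by rw [QuotientGroup.ker_mk'])).symm

end SL

end Cfsg.Agent.Redundant81
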